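import Groth.Agent.ProjUniv.PullBasis
import Groth.Agent.ProjQuot.Map
import Groth.Agent.ProjTwist.Invertible
import Groth.Agent.ProjTwist.Ample

/-!
# Inverse images of twisting sheaves along `Proj.map`
-/

set_option autoImplicit false
universe u
open CategoryTheory CategoryTheory.Limits AlgebraicGeometry Opposite TopologicalSpace

namespace Groth.Agent.ProjLinear

open ProjUniv InvBasic ProjGamma

set_option synthInstance.maxHeartbeats 400000
set_option maxHeartbeats 1600000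

variable {R A : Type u} [CommRing R] [CommRing A] [Algebra R A] (𝒜 : ℕ → Submodule R A) [GradedAlgebra 𝒜]

theorem isBasis_globalOf {d : ℕ} (g : 𝒜 d) :
    IsBasis (Twist.twist 𝒜 (d : ℤ)) (gres (Twist.twist 𝒜 (d : ℤ)) (Twist.globalOf 𝒜 g) (Proj.basicOpen 𝒜 g.1)) := by
  intro W hW
  have h := ProjTwist.bijective_smul_fracSect (W := W) g
    (⟨1, SetLike.GradedOne.one_mem⟩ : 𝒜 0) (fun x => hW x.2) (fun y => ProjTwist.notMem_one 𝒜 y.1)
    (m := (d : ℤ)) (by simp)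
  simp only [ProjUniv.gres, ProjUniv.res, Groth.Agent.QCohLib.map_map]
  exact h

theorem globalOf_eq_smul {d : ℕ} (a g : 𝒜 d) {W : (Proj 𝒜).Opens}
    (hW : ∀ x : W, g.1 ∉ x.1.asHomogeneousIdeal) :
    gres (Twist.twist 𝒜 (d : ℤ)) (Twist.globalOf 𝒜 a) W =
      regFrac W a.1 g.1 a.2 g.2 hW • gres (Twist.twist 𝒜 (d : ℤ)) (Twist.globalOf 𝒜 g) W := by
  refine ProjTwist.sectN_ext fun y => Eq.symm ((ProjTwist.smulT_val (U := W) _ _ y).trans ?_)
  refine (congrArg (· * _) (rval_regFrac W a.1 g.1 a.2 g.2 hW y.1 y.2)).trans ?_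
  refine (Localization.mk_mul _ _ _ _).trans ?_
  refine Localization.mk_eq_mk_iff.mpr ?_
  rw [Localization.r_iff_exists]
  exact ⟨1, by simp [mul_comm]⟩

variable {𝒜}

theorem pullSec_eq_smul {X Y : Scheme.{u}} (f : X ⟶ Y) (M : Y.Modules) {s t : ProjUP.Γm M} {U : Y.Opens}
    {c : Γ(Y, U)} (h : gres M t U = c • gres M s U) :
    gres ((Scheme.Modules.pullback f).obj M) (ProjUP.pullSec f M t) (f ⁻¹ᵁ U) =
      f.app U c • gres ((Scheme.Modules.pullback f).obj M) (ProjUP.pullSec f M s) (f ⁻¹ᵁ U) := by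
  let η := (Scheme.Modules.pullbackPushforwardAdjunction f).unit.app M
  have e : ∀ r : ProjUP.Γm M, η.app U (gres M r U) =
      gres ((Scheme.Modules.pullback f).obj M) (ProjUP.pullSec f M r) (f ⁻¹ᵁ U) := fun r =>
    Groth.Agent.QCohLib.app_map η (le_top : U ≤ ⊤) r
  rw [← e t, ← e s, h, Scheme.Modules.Hom.app_smul]
  rfl

variable {S B : Type u} [CommRing S] [CommRing B] [Algebra S B] {ℬ : ℕ → Submodule S B} [GradedAlgebra ℬ]
variable (φ : 𝒜 →+*ᵍ ℬ) (hφ : HomogeneousIdeal.irrelevant ℬ ≤ (HomogeneousIdeal.irrelevant 𝒜).map φ)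

/-- `Φ^* O(d) ≅ O(d)` when degree-`d` elements have no common zero. -/
theorem nonempty_pullback_twist_iso {d : ℕ}
    (hcovA : ∀ x : ProjectiveSpectrum 𝒜, ∃ g ∈ 𝒜 d, g ∉ x.asHomogeneousIdeal) :
    Nonempty ((Scheme.Modules.pullback (Proj.map φ hφ)).obj (Twist.twist 𝒜 (d : ℤ)) ≅ Twist.twist ℬ (d : ℤ)) := by
  let j := Proj.map φ hφ
  let M := Twist.twist 𝒜 (d : ℤ)
  have hMinv : PicF.IsInvertible M :=
    ProjTwist.isInvertible_twist (by simpa using ProjTwist.hasUnit_of_cover hcovA 1)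
  let W : 𝒜 d → (Proj ℬ).Opens := fun g => j ⁻¹ᵁ Proj.basicOpen 𝒜 g.1
  have hW : ∀ y, ∃ g, y ∈ W g := fun y => by
    obtain ⟨g, hg, hgy⟩ := hcovA (j y)
    exact ⟨⟨g, hg⟩, hgy⟩
  have hpinv := isInvertible_pullback j hMinv
  have hb : ∀ g, IsBasis ((Scheme.Modules.pullback j).obj M)
      (gres _ (ProjUP.pullSec j M (Twist.globalOf 𝒜 g)) (W g)) := by
    intro g
    have hle : W g ≤ genOpen hpinv (ProjUP.pullSec j M (Twist.globalOf 𝒜 g)) := fun y hy =>
      gen_pullSec j M _ (isBasis_globalOf 𝒜 g) hy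
    have h := (isBasis_genOpen hpinv (ProjUP.pullSec j M (Twist.globalOf 𝒜 g))).restrict hle
    simp only [ProjUniv.gres, ProjUniv.res, Groth.Agent.QCohLib.map_map] at h ⊢
    exact h
  have hb' : ∀ g : 𝒜 d, IsBasis (Twist.twist ℬ (d : ℤ))
      (gres (Twist.twist ℬ (d : ℤ)) (Twist.globalOf ℬ (⟨φ g.1, Graded.map_mem φ g.2⟩ : ℬ d)) (W g)) := by
    intro g
    have h := (isBasis_globalOf ℬ (⟨φ g.1, Graded.map_mem φ g.2⟩ : ℬ d)).restrict
      (V := W g) (fun y hy => hy)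
    simp only [ProjUniv.gres, ProjUniv.res, Groth.Agent.QCohLib.map_map] at h ⊢
    exact h
  obtain ⟨τ, -⟩ := exists_iso_of_bases (W := W) hW hb hb'
    (fun g a => j.app _ (regFrac (Proj.basicOpen 𝒜 g.1) a.1 g.1 a.2 g.2 fun x => x.2))
    (fun g a => pullSec_eq_smul j M (globalOf_eq_smul 𝒜 a g fun x => x.2))
    (fun g a => by
      rw [globalOf_eq_smul ℬ (⟨φ a.1, Graded.map_mem φ a.2⟩ : ℬ d) (⟨φ g.1, Graded.map_mem φ g.2⟩ : ℬ d)
        (W := W g) (fun y => y.2)]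
      refine congrArg (· • _) ?_
      exact reg_ext fun y hy => (rval_regFrac _ _ _ _ _ _ y hy).trans
        (ProjQuot.rval_map_app_regFrac φ hφ (W := Proj.basicOpen 𝒜 g.1) a.1 g.1 a.2 g.2 (fun x => x.2) y hy).symm)
  exact ⟨τ⟩

end Groth.Agent.ProjLinear
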