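import Groth.Agent.ProjLinear.ZeroScheme
import Mathlib.RingTheory.MvPolynomial.Basic
import Mathlib.Algebra.MvPolynomial.Division
import Mathlib.RingTheory.Polynomial.Content

/-!
# Global sections of `O(1)` on projective space are linear forms
-/

set_option autoImplicit false
universe u
open CategoryTheory CategoryTheory.Limits AlgebraicGeometry Opposite TopologicalSpace

namespace Groth.Agent.ProjLinear

open ProjGamma

set_option synthInstance.maxHeartbeats 400000
set_option maxHeartbeats 1600000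

variable {k : Type u} [CommRing k] {n : ℕ}

theorem X_mem (i : Fin (n + 1)) :
    (MvPolynomial.X i : MvPolynomial (Fin (n + 1)) k) ∈ CohB1.polyGrading n k 1 :=
  MvPolynomial.isHomogeneous_X k i

theorem exists_X_notMem (x : ProjectiveSpectrum (CohB1.polyGrading n k)) :
    ∃ i, (MvPolynomial.X i : MvPolynomial (Fin (n + 1)) k) ∉ x.asHomogeneousIdeal :=
  ProjTwist.exists_generator_notMem (CohB1.polyGrading n k) (fun i : Fin (n + 1) => MvPolynomial.X i)
    (fun _ => 1) (fun _ => one_pos) X_mem MvPolynomial.adjoin_range_X x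

theorem exists_degree_one (x : ProjectiveSpectrum (CohB1.polyGrading n k)) :
    ∃ g ∈ CohB1.polyGrading n k 1, g ∉ x.asHomogeneousIdeal := by
  obtain ⟨i, hi⟩ := exists_X_notMem x
  exact ⟨_, X_mem i, hi⟩

variable [IsDomain k]

/-- The generic point. -/
noncomputable def genPoint (k : Type u) [CommRing k] [IsDomain k] (n : ℕ) :
    ProjectiveSpectrum (CohB1.polyGrading n k) where
  asHomogeneousIdeal := ⊥
  isPrime := by
    rw [HomogeneousIdeal.toIdeal_bot]
    exact Ideal.isPrime_bot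
  not_irrelevant_le h := by
    have h1 := h (HomogeneousIdeal.mem_irrelevant_of_mem _ one_pos (X_mem (k := k) (0 : Fin (n + 1))))
    have h2 : (MvPolynomial.X (0 : Fin (n + 1)) : MvPolynomial (Fin (n + 1)) k) ∈
        (⊥ : Ideal (MvPolynomial (Fin (n + 1)) k)) := by
      rw [← HomogeneousIdeal.toIdeal_bot (𝒜 := CohB1.polyGrading n k)]; exact h1
    exact MvPolynomial.X_ne_zero _ h2

theorem notMem_genPoint {a : MvPolynomial (Fin (n + 1)) k} (ha : a ≠ 0) :
    a ∉ (genPoint k n).asHomogeneousIdeal := by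
  intro h
  have h2 : a ∈ (⊥ : Ideal (MvPolynomial (Fin (n + 1)) k)) := by
    rw [← HomogeneousIdeal.toIdeal_bot (𝒜 := CohB1.polyGrading n k)]; exact h
  exact ha h2

theorem exists_linearForm (σ : Γ(Twist.twist (CohB1.polyGrading (n + 1) k) ((1 : ℕ) : ℤ), ⊤)) :
    ∃ F : CohB1.polyGrading (n + 1) k 1, σ = Twist.globalOf (CohB1.polyGrading (n + 1) k) F := by
  classical
  let 𝒜 := CohB1.polyGrading (n + 1) k
  let L := Twist.twist 𝒜 ((1 : ℕ) : ℤ)
  have hloc : ∀ i : Fin (n + 2), ∃ (d : ℕ) (p : MvPolynomial (Fin (n + 2)) k), p ∈ 𝒜 (d + 1) ∧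
      ∀ (x : ProjectiveSpectrum 𝒜) (hx : MvPolynomial.X i ∉ x.asHomogeneousIdeal),
        tval σ x trivial = Localization.mk p ⟨MvPolynomial.X i ^ d, notMem_pow hx d⟩ := by
    intro i
    let g : 𝒜 1 := ⟨MvPolynomial.X i, X_mem i⟩
    let V : (Proj 𝒜).Opens := Proj.basicOpen 𝒜 g.1
    obtain ⟨r, hr⟩ := (isBasis_globalOf 𝒜 g V le_rfl).2 (ProjUniv.gres L σ V)
    obtain ⟨d, q, hq, -, hqval⟩ := ProjTwist.exists_frac_regular 𝒜 one_pos g.2 (show Γ(Proj 𝒜, V) from r)
    rw [mul_one] at hq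
    refine ⟨d, q * g.1, SetLike.mul_mem_graded hq g.2, fun x hx => ?_⟩
    have e : tval σ x trivial = rval (show Γ(Proj 𝒜, V) from r) x hx *
        Localization.mk g.1 ⟨1, ProjTwist.notMem_one 𝒜 x⟩ := by
      rw [show tval σ x trivial = tval (ProjUniv.gres L σ V) x hx from rfl, ← hr]
      exact tval_smul _ _ x hx
    rw [e, show rval (show Γ(Proj 𝒜, V) from r) x hx = Localization.mk q
      ⟨g.1 ^ d, notMem_pow hx d⟩ from hqval x hx, Localization.mk_mul]
    congr 1
    exact Subtype.ext (mul_one _)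
  choose d p hp hval using hloc
  have hη : ∀ i, MvPolynomial.X i ∉ (genPoint k (n + 1)).asHomogeneousIdeal :=
    fun i => notMem_genPoint (MvPolynomial.X_ne_zero i)
  have hcross : ∀ i l, p i * MvPolynomial.X l ^ d l = p l * MvPolynomial.X i ^ d i := by
    intro i l
    have h := (hval i _ (hη i)).symm.trans (hval l _ (hη l))
    rw [Localization.mk_eq_mk_iff, Localization.r_iff_exists] at h
    obtain ⟨u, hu⟩ := h
    have hu0 : (u : MvPolynomial (Fin (n + 2)) k) ≠ 0 := fun h0 => u.2 (h0 ▸ Ideal.zero_mem _)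
    have hu' := mul_left_cancel₀ hu0 hu
    simp only at hu'
    linear_combination hu'
  have hdvd : ∀ i, MvPolynomial.X i ^ d i ∣ p i := by
    intro i
    obtain ⟨l, hl⟩ : ∃ l : Fin (n + 2), l ≠ i := exists_ne i
    refine (MvPolynomial.X_prime (i := i) (R := k)).pow_dvd_of_dvd_mul_right (d i) ?_ (Dvd.intro_left (p l) (hcross i l).symm)
    intro hd
    have h1 := (MvPolynomial.X_prime (i := i) (R := k)).dvd_of_dvd_pow hd
    have h2 := map_dvd (MvPolynomial.eval₂Hom (RingHom.id k) (fun j => if j = i then 0 else 1)) h1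
    simp [hl] at h2
  choose f hf using hdvd
  have hf1 : ∀ i, f i ∈ 𝒜 1 := by
    intro i
    by_cases h0 : f i = 0
    · rw [h0]; exact zero_mem _
    have hXd : (MvPolynomial.X i ^ d i : MvPolynomial (Fin (n + 2)) k).IsHomogeneous (d i) := by
      simpa using (MvPolynomial.isHomogeneous_X k i).pow (d i)
    have h1 := DirectSum.coe_decompose_mul_of_left_mem_of_le (𝒜 := 𝒜) (b := f i) hXd
      (n := d i + 1) (Nat.le_add_right _ _)
    rw [← hf, DirectSum.decompose_of_mem_same 𝒜 (hp i), hf i] at h1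
    have h2 := mul_left_cancel₀ (pow_ne_zero _ (MvPolynomial.X_ne_zero i)) h1
    rw [h2, Nat.add_sub_cancel_left]
    exact SetLike.coe_mem _
  have hfval : ∀ i x (hx : MvPolynomial.X i ∉ (x : ProjectiveSpectrum 𝒜).asHomogeneousIdeal),
      tval σ x trivial = Localization.mk (f i) ⟨1, ProjTwist.notMem_one 𝒜 x⟩ := by
    intro i x hx
    rw [hval i x hx, Localization.mk_eq_mk_iff, Localization.r_iff_exists]
    refine ⟨1, ?_⟩
    simp [hf i]
  have heq : ∀ i, f i = f 0 := by
    intro i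
    have h := (hfval i _ (hη i)).symm.trans (hfval 0 _ (hη 0))
    rw [Localization.mk_eq_mk_iff, Localization.r_iff_exists] at h
    obtain ⟨u, hu⟩ := h
    have hu0 : (u : MvPolynomial (Fin (n + 2)) k) ≠ 0 := fun h0 => u.2 (h0 ▸ Ideal.zero_mem _)
    simpa using mul_left_cancel₀ hu0 hu
  refine ⟨⟨f 0, hf1 0⟩, tval_ext fun x hx => ?_⟩
  obtain ⟨i, hi⟩ := exists_X_notMem x
  rw [show tval σ x hx = tval σ x trivial from rfl, hfval i x hi, heq i]
  rfl

end Groth.Agent.ProjLinear
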