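import Groth.Prelude.Def_PicF2
import Groth.Agent.ProjLinear.PullTwist
import Groth.Agent.ProjTwist.QCoh

/-!
# The zero scheme of a linear form is `Proj` of the quotient
-/

set_option autoImplicit false
universe u
open CategoryTheory CategoryTheory.Limits AlgebraicGeometry Opposite TopologicalSpace

namespace Groth.Agent.ProjLinear

open ProjGamma

set_option synthInstance.maxHeartbeats 400000
set_option maxHeartbeats 1600000

variable {R A : Type u} [CommRing R] [CommRing A] [Algebra R A] {𝒜 : ℕ → Submodule R A} [GradedAlgebra 𝒜]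

/-- The value of a section of `O(1)` at a point. -/
noncomputable def tval {W : (Proj 𝒜).Opens} (m : Γ(Twist.twist 𝒜 ((1 : ℕ) : ℤ), W))
    (x : ProjectiveSpectrum 𝒜) (hx : x ∈ W) : Twist.Loc 𝒜 x :=
  ((show Twist.sectN (𝒜 := 𝒜) ((1 : ℕ) : ℤ) (op W) from m).1 ⟨x, hx⟩).1

theorem tval_ext {W : (Proj 𝒜).Opens} {m m' : Γ(Twist.twist 𝒜 ((1 : ℕ) : ℤ), W)}
    (h : ∀ x hx, tval m x hx = tval m' x hx) : m = m' :=
  ProjTwist.sectN_ext fun x => h x.1 x.2

theorem tval_smul {W : (Proj 𝒜).Opens} (c : Γ(Proj 𝒜, W)) (m : Γ(Twist.twist 𝒜 ((1 : ℕ) : ℤ), W))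
    (x : ProjectiveSpectrum 𝒜) (hx : x ∈ W) : tval (c • m) x hx = rval c x hx * tval m x hx :=
  ProjTwist.smulT_val (U := W) _ _ ⟨x, hx⟩

theorem tval_res {W W' : (Proj 𝒜).Opens} (h : W' ≤ W) (m : Γ(Twist.twist 𝒜 ((1 : ℕ) : ℤ), W))
    (x : ProjectiveSpectrum 𝒜) (hx : x ∈ W') :
    tval ((Twist.twist 𝒜 ((1 : ℕ) : ℤ)).presheaf.map (homOfLE h).op m) x hx = tval m x (h hx) := rfl

theorem secVal_globalHom (F : 𝒜 1) (U : (Proj 𝒜).Opens) :
    (PicF2.secVal (Twist.twist 𝒜 ((1 : ℕ) : ℤ))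
      (ProjTwist.globalHom (Twist.twist 𝒜 ((1 : ℕ) : ℤ)) (Twist.globalOf 𝒜 F)) U : Γ(Twist.twist 𝒜 ((1 : ℕ) : ℤ), U)) =
      ProjUniv.gres (Twist.twist 𝒜 ((1 : ℕ) : ℤ)) (Twist.globalOf 𝒜 F) U := by
  show (ProjTwist.globalHom (Twist.twist 𝒜 ((1 : ℕ) : ℤ)) (Twist.globalOf 𝒜 F)).app U (1 : Γ(Proj 𝒜, U)) = _
  refine (ProjTwist.globalHom_app _ _ U 1).trans ?_
  exact one_smul _ _

theorem tval_globalOf (F : 𝒜 1) {U : (Proj 𝒜).Opens} (x : ProjectiveSpectrum 𝒜) (hx : x ∈ U) :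
    tval (ProjUniv.gres (Twist.twist 𝒜 ((1 : ℕ) : ℤ)) (Twist.globalOf 𝒜 F) U) x hx =
      Localization.mk F.1 ⟨1, ProjTwist.notMem_one 𝒜 x⟩ := rfl

variable [IsDomain A] {F : 𝒜 1} (hF : F.1 ≠ 0)

include hF in
theorem mul_frac_cancel {x : ProjectiveSpectrum 𝒜} {p q : Twist.Loc 𝒜 x}
    (h : p * Localization.mk F.1 ⟨1, ProjTwist.notMem_one 𝒜 x⟩ = q * Localization.mk F.1 ⟨1, ProjTwist.notMem_one 𝒜 x⟩) :
    p = q := by
  refine mul_right_cancel₀ ?_ h
  intro hz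
  apply hF
  rw [← Localization.mk_zero 1, Localization.mk_eq_mk_iff, Localization.r_iff_exists] at hz
  obtain ⟨u, hu⟩ := hz
  have h2 : (u : A) * F.1 = 0 := by simpa using hu
  exact (mul_eq_zero.mp h2).resolve_left fun h0 => u.2 (h0 ▸ Ideal.zero_mem _)

variable {B : Type u} [CommRing B] [Algebra R B] {ℬ : ℕ → Submodule R B} [GradedAlgebra ℬ]
variable (φ : 𝒜 →+*ᵍ ℬ) (hφ : HomogeneousIdeal.irrelevant ℬ ≤ (HomogeneousIdeal.irrelevant 𝒜).map φ)

include hF in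
theorem ker_map_eq_zeroScheme (hsurj : Function.Surjective φ) (hker : ∀ a, φ a = 0 ↔ F.1 ∣ a)
    (hcov : ∀ x : ProjectiveSpectrum 𝒜, ∃ g ∈ 𝒜 1, g ∉ x.asHomogeneousIdeal) :
    (Proj.map φ hφ).ker = PicF2.zeroScheme (Twist.twist 𝒜 ((1 : ℕ) : ℤ))
      (ProjTwist.globalHom (Twist.twist 𝒜 ((1 : ℕ) : ℤ)) (Twist.globalOf 𝒜 F)) := by
  classical
  let j := Proj.map φ hφ
  haveI : IsClosedImmersion j := ProjQuot.isClosedImmersion_map φ hφ hsurj
  let L := Twist.twist 𝒜 ((1 : ℕ) : ℤ)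
  let σ : Γ(L, ⊤) := Twist.globalOf 𝒜 F
  refine le_antisymm (Scheme.IdealSheafData.le_ofIdeals_iff.mpr fun U a ha => ?_) ?_
  · rw [Scheme.Hom.ker_apply, RingHom.mem_ker] at ha
    intro (m : Γ(L, U.1))
    have hloc : ∀ x : U.1, ∃ (V : (Proj 𝒜).Opens) (hV : V ≤ U.1) (_ : x.1 ∈ V) (b : Γ(Proj 𝒜, V)),
        ∀ y (hy : y ∈ V), rval (a : Γ(Proj 𝒜, U.1)) y (hV hy) * tval m y (hV hy) =
          rval b y hy * Localization.mk F.1 ⟨1, ProjTwist.notMem_one 𝒜 y⟩ := by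
      rintro ⟨x, hxU⟩
      obtain ⟨e₀, h₀, hh₀, hxh₀, hh₀U⟩ := ProjTwist.exists_homogeneous_nhd 𝒜 U.1 hxU
      obtain ⟨g, hg, hgx⟩ := hcov x
      let e := e₀ + 1
      have hh : h₀ * g ∈ 𝒜 e := SetLike.mul_mem_graded hh₀ hg
      let V : (Proj 𝒜).Opens := Proj.basicOpen 𝒜 (h₀ * g)
      have hV : V ≤ U.1 := fun y hy => hh₀U fun hc => hy (Ideal.mul_mem_right _ _ hc)
      have hxV : x ∈ V := notMem_mul hxh₀ hgx
      have hVg : ∀ y : V, g ∉ y.1.asHomogeneousIdeal := fun y hc => y.2 (Ideal.mul_mem_left _ _ hc)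
      let a' : Γ(Proj 𝒜, V) := (Proj 𝒜).presheaf.map (homOfLE hV).op (a : Γ(Proj 𝒜, U.1))
      obtain ⟨k, q, hq, -, hqval⟩ := ProjTwist.exists_frac_regular 𝒜 (Nat.succ_pos e₀) hh a'
      have hqk : (h₀ * g) ^ k ∈ 𝒜 (k * e) := by
        simpa [smul_eq_mul] using SetLike.pow_mem_graded k hh
      have ha' : a' = regFrac V q ((h₀ * g) ^ k) hq hqk (fun y => notMem_pow y.2 k) :=
        reg_ext fun y hy => (hqval y hy).trans (rval_regFrac V q _ hq hqk (fun y => notMem_pow y.2 k) y hy).symm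
      have hzero : j.app V a' = 0 := by
        have h1 := ConcreteCategory.congr_hom (j.naturality (homOfLE hV).op) (a : Γ(Proj 𝒜, U.1))
        refine Eq.trans h1 ?_
        show _ = (0 : Γ(Proj ℬ, j ⁻¹ᵁ V))
        rw [ConcreteCategory.comp_apply, show j.app U.1 (a : Γ(Proj 𝒜, U.1)) = 0 from ha, map_zero]
      rw [ha'] at hzero
      obtain ⟨N, hN⟩ := (ProjQuot.map_app_regFrac_eq_zero_iff φ hφ (Nat.succ_pos e₀) hh q hq hqk).mp hzero
      obtain ⟨q', hq'⟩ : F.1 ∣ (h₀ * g) ^ (N + 1) * q := by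
        have : φ ((h₀ * g) ^ (N + 1) * q) = 0 := by
          rw [pow_succ', mul_assoc, map_mul, hN, mul_zero]
        exact (hker _).mp this
      have hdeg : (h₀ * g) ^ (N + 1) * q ∈ 𝒜 ((N + 1 + k) * e) := by
        rw [Nat.add_mul]
        exact SetLike.mul_mem_graded (by simpa [smul_eq_mul] using SetLike.pow_mem_graded (N + 1) hh) hq
      have hD1 : 1 ≤ (N + 1 + k) * e := Nat.mul_pos (by omega) (Nat.succ_pos e₀)
      let q'' : A := (DirectSum.decompose 𝒜 q' ((N + 1 + k) * e - 1) : A)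
      have hq'' : F.1 * q'' = (h₀ * g) ^ (N + 1) * q := by
        have h1 := DirectSum.coe_decompose_mul_of_left_mem_of_le (𝒜 := 𝒜) (b := q') F.2
          (n := (N + 1 + k) * e) hD1
        rw [← hq', DirectSum.decompose_of_mem_same 𝒜 hdeg] at h1
        exact h1.symm
      have hnum : q'' * g ∈ 𝒜 ((N + 1 + k) * e) := by
        have := SetLike.mul_mem_graded (DirectSum.decompose 𝒜 q' ((N + 1 + k) * e - 1)).2 hg
        rwa [Nat.sub_add_cancel hD1] at this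
      have hden : (h₀ * g) ^ (N + 1 + k) ∈ 𝒜 ((N + 1 + k) * e) := by
        simpa [smul_eq_mul] using SetLike.pow_mem_graded (N + 1 + k) hh
      let m' : Γ(L, V) := L.presheaf.map (homOfLE hV).op m
      obtain ⟨r, hr⟩ := (isBasis_globalOf 𝒜 (⟨g, hg⟩ : 𝒜 1) V (fun y hy => hVg ⟨y, hy⟩)).2 m'
      refine ⟨V, hV, hxV, regFrac V (q'' * g) ((h₀ * g) ^ (N + 1 + k)) hnum hden (fun y => notMem_pow y.2 _) * r,
        fun y hy => ?_⟩
      have hm : tval m y (hV hy) = rval r y hy * Localization.mk g ⟨1, ProjTwist.notMem_one 𝒜 y⟩ := by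
        rw [← tval_res hV m y hy, show L.presheaf.map (homOfLE hV).op m = m' from rfl, ← hr]
        exact tval_smul _ _ y hy
      have hav : rval (a : Γ(Proj 𝒜, U.1)) y (hV hy) = Localization.mk q ⟨(h₀ * g) ^ k, notMem_pow hy k⟩ := by
        rw [← rval_res hV (a : Γ(Proj 𝒜, U.1)) y hy, show (Proj 𝒜).presheaf.map (homOfLE hV).op (a : Γ(Proj 𝒜, U.1)) = a' from rfl, ha']
        exact rval_regFrac V _ _ hq hqk _ y hy
      refine Eq.trans ?_ (congrArg (· * _) (rval_mul _ _ y hy)).symm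
      refine Eq.trans ?_ (congrArg (fun v => v * rval r y hy * _)
        (rval_regFrac V (q'' * g) _ hnum hden (fun y => notMem_pow y.2 _) y hy)).symm
      rw [hm, hav, mul_left_comm, mul_comm (Localization.mk (q'' * g) _) (rval r y hy),
        mul_assoc (rval r y hy)]
      congr 1
      rw [Localization.mk_mul, Localization.mk_mul, Localization.mk_eq_mk_iff, Localization.r_iff_exists]
      refine ⟨1, ?_⟩
      simp only [Submonoid.coe_mul, OneMemClass.coe_one, mul_one, one_mul]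
      rw [show q'' * g * F.1 = F.1 * q'' * g by ring, hq'', pow_add]
      ring
    choose V hV hxV b hb using hloc
    have hcomp : TopCat.Presheaf.IsCompatible (Proj 𝒜).sheaf.obj V b := by
      intro x y
      refine reg_ext fun z hz => mul_frac_cancel hF ?_
      exact (hb x z hz.1).symm.trans (hb y z hz.2)
    obtain ⟨c, hc, -⟩ := TopCat.Sheaf.existsUnique_gluing' (Proj 𝒜).sheaf V U.1 (fun x => homOfLE (hV x))
      (fun x hx => Opens.mem_iSup.mpr ⟨⟨x, hx⟩, hxV ⟨x, hx⟩⟩) b hcomp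
    refine ⟨c, ?_⟩
    suffices (show Γ(Proj 𝒜, U.1) from a) • m = (show Γ(Proj 𝒜, U.1) from c) •
        (show Γ(L, U.1) from PicF2.secVal L (ProjTwist.globalHom L σ) U.1) from this
    rw [secVal_globalHom]
    refine tval_ext fun x hx => ?_
    rw [tval_smul, tval_smul, tval_globalOf]
    refine (hb ⟨x, hx⟩ x (hxV ⟨x, hx⟩)).trans ?_
    rw [← hc ⟨x, hx⟩]
    rfl
  · let ι := Σ' g : A, g ∈ 𝒜 1
    refine Scheme.IdealSheafData.le_of_iSup_eq_top
      (fun g : ι => ⟨Proj.basicOpen 𝒜 g.1, Proj.isAffineOpen_basicOpen 𝒜 g.1 g.2 one_pos⟩)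
      (eq_top_iff.mpr fun (x : ProjectiveSpectrum 𝒜) _ => by
        obtain ⟨g, hg, hgx⟩ := hcov x
        exact Opens.mem_iSup.mpr ⟨⟨g, hg⟩, hgx⟩) ?_
    rintro ⟨g, hg⟩ a ha
    rw [Scheme.Hom.ker_apply, RingHom.mem_ker]
    let V : (Proj 𝒜).Opens := Proj.basicOpen 𝒜 g
    obtain ⟨b, hb⟩ := Scheme.IdealSheafData.ideal_ofIdeals_le _
      (⟨V, Proj.isAffineOpen_basicOpen 𝒜 g hg one_pos⟩ : (Proj 𝒜).affineOpens) ha
      (ProjUniv.gres L (Twist.globalOf 𝒜 ⟨g, hg⟩) V)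
    let f : Γ(Proj 𝒜, V) := regFrac V F.1 g F.2 hg (fun y => y.2)
    have hab : (a : Γ(Proj 𝒜, V)) = (show Γ(Proj 𝒜, V) from b) * f := by
      refine (isBasis_globalOf 𝒜 (⟨g, hg⟩ : 𝒜 1) V le_rfl).1 ?_
      simp only [Groth.Agent.QCohLib.map_self]
      rw [secVal_globalHom] at hb
      refine hb.trans ?_
      refine Eq.trans ?_ (mul_smul (show Γ(Proj 𝒜, V) from b) f
        (ProjUniv.gres L (Twist.globalOf 𝒜 ⟨g, hg⟩) V)).symm
      exact congrArg _ (globalOf_eq_smul 𝒜 F ⟨g, hg⟩ (W := V) fun y => y.2)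
    show j.app V (a : Γ(Proj 𝒜, V)) = 0
    rw [hab, map_mul]
    refine mul_eq_zero_of_right _ (reg_ext fun y hy => ?_)
    refine (ProjQuot.rval_map_app_regFrac φ hφ (W := V) F.1 g F.2 hg (fun x => x.2) y hy).trans ?_
    refine Eq.trans ?_ HomogeneousLocalization.val_zero.symm
    rw [(hker F.1).mpr dvd_rfl]
    exact Localization.mk_zero _

end Groth.Agent.ProjLinear
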